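import Groth.Agent.Lib.DivDesc12.Fibre
import Groth.Agent.Lib.Cyc26.StalkLoc
import Groth.Agent.Lib.Cyc26.PushDivFinite
import Groth.Agent.Lib.TensorMod.PullSupport
import Groth.Agent.Lib.FibDepth5.Bridge
import Groth.Agent.Lib.AssPts11.Basic
import Groth.Agent.Lib.CohFound.Devissage
import Groth.Prelude.Def_FlatMod2

/-!
Fibres of a coherent module over a trait: stalks, supports and maximal points.
-/

universe u

open CategoryTheory CategoryTheory.Limits AlgebraicGeometry TopologicalSpace IsLocalRing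

set_option backward.isDefEq.respectTransparency false
set_option backward.isDefEq.respectTransparency.types false

namespace Groth.Agent.GenLen5

variable {X Y : Scheme.{u}}

/-- The ideal of the fibre at a point. -/
noncomputable abbrev fibIdeal (f : X ⟶ Y) (x : X) : Ideal (X.presheaf.stalk x) :=
  (maximalIdeal (Y.presheaf.stalk (f x))).map (f.stalkMap x).hom

theorem map_σ_eq (f : X ⟶ Y) (x : X) {y : Y} (hx : f x = y) (h : f x ⤳ y) :
    (maximalIdeal (Y.presheaf.stalk y)).map (DivDesc12.σ f x h) = fibIdeal f x := by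
  subst hx
  congr 1
  ext a
  simp [DivDesc12.σ, DivDesc12.sp]

theorem stalkMap_fiberι_eq_zero_iff (f : X ⟶ Y) (y : Y) (z : f.fiber y)
    (b : X.presheaf.stalk (f.fiberι y z)) :
    (f.fiberι y).stalkMap z b = 0 ↔ b ∈ fibIdeal f (f.fiberι y z) := by
  have hx : f (f.fiberι y z) = y := (f.range_fiberι y).le ⟨z, rfl⟩
  rw [DivDesc12.stalkMap_fiberι_eq_zero_iff f _ hx (specializes_of_eq hx) z rfl b, map_σ_eq f _ hx]

theorem apply_fiberι (f : X ⟶ Y) (y : Y) (z : f.fiber y) : f (f.fiberι y z) = y :=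
  (f.range_fiberι y).le ⟨z, rfl⟩

section Stalk

variable (f : X ⟶ Y) (F : X.Modules) (y : Y) (z : f.fiber y)

theorem stalkUnit_surjective_and_ker :
    Function.Surjective (M2.stalkUnit (f.fiberι y) z F) ∧
      LinearMap.ker (M2.stalkUnit (f.fiberι y) z F) =
        fibIdeal f (f.fiberι y z) • (⊤ : Submodule (X.presheaf.stalk (f.fiberι y z)) (F.presheaf.stalk (f.fiberι y z) : Type u)) := by
  have h := FibDepth5.surjective_and_ker_of_isBaseChange
    (S := X.presheaf.stalk (f.fiberι y z)) (R := (f.fiber y).presheaf.stalk z)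
    ((f.fiberι y).stalkMap_surjective z) (M2.isBaseChange_stalkUnit (f.fiberι y) z F)
  refine ⟨h.1, h.2.trans ?_⟩
  congr 1
  ext b
  exact stalkMap_fiberι_eq_zero_iff f y z b

theorem length_fiber_stalk :
    Module.length ((f.fiber y).presheaf.stalk z)
        (((Scheme.Modules.pullback (f.fiberι y)).obj F).presheaf.stalk z) =
      Module.length (X.presheaf.stalk (f.fiberι y z))
        (F.presheaf.stalk (f.fiberι y z) ⧸
          fibIdeal f (f.fiberι y z) • (⊤ : Submodule (X.presheaf.stalk (f.fiberι y z)) (F.presheaf.stalk (f.fiberι y z) : Type u))) := by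
  obtain ⟨h1, h2⟩ := stalkUnit_surjective_and_ker f F y z
  rw [← h2]
  exact (Module.length_eq_of_surjective (M := (((Scheme.Modules.pullback (f.fiberι y)).obj F).presheaf.stalk z : Type u))
    ((f.fiberι y).stalkMap_surjective z)).symm.trans
    ((M2.stalkUnit (f.fiberι y) z F).quotKerEquivOfSurjective h1).length_eq.symm

theorem nontrivial_fiber_stalk_iff (hF : Coh.IsQCoh F) (hFT : CohB1.IsFT F) :
    Nontrivial (((Scheme.Modules.pullback (f.fiberι y)).obj F).presheaf.stalk z) ↔
      Nontrivial (F.presheaf.stalk (f.fiberι y z)) := by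
  have h := Set.ext_iff.1 (M2.support_pullback (f.fiberι y) hF hFT) z
  change ¬ _ ↔ ¬ _ at h
  rwa [not_subsingleton_iff_nontrivial, not_subsingleton_iff_nontrivial] at h

end Stalk

/-- A point of the support with nothing of the support strictly above it in its fibre. -/
def IsMaxPt (f : X ⟶ Y) (F : X.Modules) (y : Y) (x : X) : Prop :=
  f x = y ∧ Nontrivial (F.presheaf.stalk x) ∧
    ∀ w, f w = y → Nontrivial (F.presheaf.stalk w) → w ⤳ x → w = x

theorem isMaxPt_fiberι_iff (f : X ⟶ Y) {F : X.Modules} (hF : Coh.IsQCoh F) (hFT : CohB1.IsFT F) (y : Y)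
    (v : f.fiber y) :
    (Nontrivial (((Scheme.Modules.pullback (f.fiberι y)).obj F).presheaf.stalk v) ∧
      ∀ w : f.fiber y, Nontrivial (((Scheme.Modules.pullback (f.fiberι y)).obj F).presheaf.stalk w) →
        v ∈ closure {w} → w = v) ↔ IsMaxPt f F y (f.fiberι y v) := by
  have hsp : ∀ w : f.fiber y, v ∈ closure {w} ↔ f.fiberι y w ⤳ f.fiberι y v := fun w => by
    rw [← specializes_iff_mem_closure, (f.fiberι y).isEmbedding.isInducing.specializes_iff]
  simp only [nontrivial_fiber_stalk_iff f F y _ hF hFT, hsp, IsMaxPt, apply_fiberι, true_and]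
  refine and_congr_right fun _ => ⟨fun h w hw hn hs => ?_, fun h w hn hs => ?_⟩
  · obtain ⟨w, rfl⟩ := (f.range_fiberι y).ge hw
    rw [h w hn hs]
  · exact (f.fiberι y).isEmbedding.injective (h _ (apply_fiberι f y w) hn hs)

/-- Every point of a closed set lies below a maximal one. -/
theorem exists_maximal {C : Set X} (hC : IsClosed C) {x₀ : X} (h : x₀ ∈ C) :
    ∃ x ∈ C, x ⤳ x₀ ∧ ∀ w ∈ C, w ⤳ x → w = x := by
  haveI : QuasiSober C := hC.isClosedEmbedding_subtypeVal.quasiSober
  obtain ⟨g, hg⟩ := QuasiSober.sober (isIrreducible_irreducibleComponent (x := (⟨x₀, h⟩ : C)))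
    isClosed_irreducibleComponent
  have hg' : closure {g} = irreducibleComponent (⟨x₀, h⟩ : C) := hg
  refine ⟨g.1, g.2, (subtype_specializes_iff _ _).1 (specializes_iff_mem_closure.2
    (hg' ▸ mem_irreducibleComponent)), fun w hw hwg => ?_⟩
  have hwg' : (⟨w, hw⟩ : C) ⤳ g := (subtype_specializes_iff _ _).2 hwg
  have he : closure {(⟨w, hw⟩ : C)} ⊆ closure {g} := by
    have := (irreducibleComponent_mem_irreducibleComponents (⟨x₀, h⟩ : C)).2
      ((isIrreducible_singleton (x := (⟨w, hw⟩ : C))).closure) (hg' ▸ specializes_iff_closure_subset.1 hwg')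
    exact hg' ▸ this
  exact congrArg Subtype.val
    (Specializes.antisymm hwg' (specializes_iff_mem_closure.2 (he (subset_closure rfl)))).eq

/-- A closed set of a Noetherian scheme has finitely many maximal points. -/
theorem finite_maximal [IsNoetherian X] {S : Set X} (hS : IsClosed S) :
    {x : X | x ∈ S ∧ ∀ w ∈ S, w ⤳ x → w = x}.Finite := by
  obtain ⟨s, hs⟩ := isCompact_univ.elim_finite_subcover (fun U : X.affineOpens => ((U : X.Opens) : Set X))
    (fun U => (U : X.Opens).2) fun x _ => by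
      obtain ⟨U, hU, hx, -⟩ := exists_isAffineOpen_mem_and_subset (x := x) (U := ⊤) trivial
      exact Set.mem_iUnion.2 ⟨⟨U, hU⟩, hx⟩
  refine (s.finite_toSet.biUnion fun U _ => Cyc26.finite_maximal_points hS U.2).subset fun x hx => ?_
  obtain ⟨U, hU, hxU⟩ := Set.mem_iUnion₂.1 (hs (Set.mem_univ x))
  exact Set.mem_biUnion hU ⟨hx.1, hx.2, hxU⟩

section Primes

variable {x : X}

/-- The prime of a generisation. -/
noncomputable abbrev genPrime {ξ : X} (h : ξ ⤳ x) : PrimeSpectrum (X.presheaf.stalk x) :=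
  ⟨RingHom.ker (Cyc.specMap x ξ h), RingHom.ker_isPrime _⟩

theorem germ_mem_genPrime_iff {ξ : X} (h : ξ ⤳ x) {U : X.Opens} (hU : IsAffineOpen U) (hx : x ∈ U) (c : Γ(X, U)) :
    X.presheaf.germ U x hx c ∈ (genPrime h).asIdeal ↔
      c ∈ (hU.primeIdealOf ⟨ξ, h.mem_open U.2 hx⟩).asIdeal := by
  rw [RingHom.mem_ker, Cyc26.specMap_germ h hx c, Cyc26.evaluation_eq_zero_iff hU _ c]

theorem exists_genPrime_eq (q : PrimeSpectrum (X.presheaf.stalk x)) :
    ∃ (w : X) (h : w ⤳ x), genPrime h = q := by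
  obtain ⟨U, hU, hx, -⟩ := exists_isAffineOpen_mem_and_subset (x := x) (U := ⊤) trivial
  letI := TopCat.Presheaf.algebra_section_stalk X.presheaf (⟨x, hx⟩ : U)
  haveI := hU.isLocalization_stalk ⟨x, hx⟩
  let P := hU.primeIdealOf ⟨x, hx⟩
  let Q : PrimeSpectrum Γ(X, U) := PrimeSpectrum.comap (algebraMap Γ(X, U) (X.presheaf.stalk x)) q
  have hQP : Q ≤ P := fun a ha => by
    by_contra hne
    exact q.isPrime.ne_top (Ideal.eq_top_of_isUnit_mem _ ha
      (IsLocalization.map_units (X.presheaf.stalk x) (⟨a, hne⟩ : P.asIdeal.primeCompl)))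
  have hy : hU.fromSpec Q ∈ U := hU.range_fromSpec.le ⟨Q, rfl⟩
  have hp : hU.primeIdealOf ⟨hU.fromSpec Q, hy⟩ = Q :=
    hU.fromSpec.isOpenEmbedding.injective (hU.fromSpec_primeIdealOf ⟨hU.fromSpec Q, hy⟩)
  have hsp : hU.fromSpec Q ⤳ x := by
    have := ((PrimeSpectrum.le_iff_specializes Q P).1 hQP).map hU.fromSpec.continuous
    rwa [hU.fromSpec_primeIdealOf ⟨x, hx⟩] at this
  refine ⟨_, hsp, PrimeSpectrum.ext ?_⟩
  rw [← IsLocalization.map_comap P.asIdeal.primeCompl _ (genPrime hsp).asIdeal,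
    ← IsLocalization.map_comap P.asIdeal.primeCompl _ q.asIdeal]
  congr 1
  ext c
  exact (germ_mem_genPrime_iff hsp hU hx c).trans (by rw [hp]; rfl)

theorem specializes_of_genPrime_le {ξ η : X} (hξ : ξ ⤳ x) (hη : η ⤳ x) (h : genPrime hξ ≤ genPrime hη) :
    ξ ⤳ η := by
  obtain ⟨U, hU, hx, -⟩ := exists_isAffineOpen_mem_and_subset (x := x) (U := ⊤) trivial
  exact (VarDim.primeIdealOf_le_iff hU ⟨ξ, hξ.mem_open U.2 hx⟩ ⟨η, hη.mem_open U.2 hx⟩).1 fun c hc =>
    (germ_mem_genPrime_iff hη hU hx c).1 (h ((germ_mem_genPrime_iff hξ hU hx c).2 hc))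

/-- A maximal point of the support gives a minimal prime of the annihilator at its specialisations. -/
theorem genPrime_mem_minimalPrimes {F : X.Modules} (hF : Coh.IsQCoh F) (hFT : CohB1.IsFT F) {ξ : X}
    (h : ξ ⤳ x) (hne : Nontrivial (F.presheaf.stalk ξ))
    (hmax : ∀ w, Nontrivial (F.presheaf.stalk w) → w ⤳ ξ → w = ξ) :
    (genPrime h).asIdeal ∈ (Module.annihilator (X.presheaf.stalk x) (F.presheaf.stalk x)).minimalPrimes := by
  haveI := M1.finite_stalk hF hFT x
  refine ⟨⟨(genPrime h).isPrime, Module.mem_support_iff_of_finite.1 ((Cyc26.mem_support_stalk_iff hF h).2 hne)⟩,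
    fun q hq hle => ?_⟩
  obtain ⟨w, hw, he⟩ := exists_genPrime_eq (⟨q, hq.1⟩ : PrimeSpectrum (X.presheaf.stalk x))
  have hnw : Nontrivial (F.presheaf.stalk w) := (Cyc26.mem_support_stalk_iff hF hw).1
    (Module.mem_support_iff_of_finite.2 (le_of_le_of_eq hq.2 (congrArg PrimeSpectrum.asIdeal he).symm))
  obtain rfl := hmax w hnw (specializes_of_genPrime_le hw h (he ▸ hle))
  exact (congrArg PrimeSpectrum.asIdeal he).le

end Primes

section Trait

theorem maximalIdeal_stalk_generic [IsIntegral Y] {p : Y} (hp : p = genericPoint Y) :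
    maximalIdeal (Y.presheaf.stalk p) = ⊥ := by
  subst hp
  exact IsLocalRing.isField_iff_maximalIdeal_eq.1 (Field.toIsField Y.functionField)

/-- At a closed non-generic point of an affine integral scheme with principal ideals the maximal ideal is
generated by a global function. -/
theorem exists_generator {A : Type u} [CommRing A] [IsDomain A] [IsPrincipalIdealRing A]
    {p : Spec (CommRingCat.of A)} (hp : p ≠ genericPoint (Spec (CommRingCat.of A))) :
    ∃ a : Γ(Spec (CommRingCat.of A), ⊤), a ≠ 0 ∧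
      maximalIdeal ((Spec (CommRingCat.of A)).presheaf.stalk p) =
        Ideal.span {(Spec (CommRingCat.of A)).presheaf.germ ⊤ p trivial a} := by
  let hU := isAffineOpen_top (Spec (CommRingCat.of A))
  haveI : IsPrincipalIdealRing Γ((Spec (CommRingCat.of A)), ⊤) :=
    IsPrincipalIdealRing.of_surjective (Scheme.ΓSpecIso (CommRingCat.of A)).inv.hom
      (ConcreteCategory.bijective_of_isIso (Scheme.ΓSpecIso (CommRingCat.of A)).inv).2
  let P := hU.primeIdealOf ⟨p, trivial⟩
  obtain ⟨a, ha⟩ := (IsPrincipalIdealRing.principal P.asIdeal).principal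
  refine ⟨a, fun h0 => hp ?_, ?_⟩
  · have hbot : P.asIdeal = ⊥ := by rw [ha, h0]; simp
    refine (Specializes.antisymm ((VarDim.primeIdealOf_le_iff hU ⟨p, trivial⟩
      ⟨genericPoint (Spec (CommRingCat.of A)), trivial⟩).1 fun c hc => ?_) (genericPoint_specializes p)).eq
    have hc' : c ∈ (⊥ : Ideal Γ((Spec (CommRingCat.of A)), ⊤)) := hbot ▸ hc
    rw [Ideal.mem_bot.1 hc']
    exact zero_mem _
  · letI := TopCat.Presheaf.algebra_section_stalk (Spec (CommRingCat.of A)).presheaf (⟨p, trivial⟩ : (⊤ : (Spec (CommRingCat.of A)).Opens))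
    haveI := hU.isLocalization_stalk ⟨p, trivial⟩
    rw [← IsLocalization.AtPrime.map_eq_maximalIdeal P.asIdeal ((Spec (CommRingCat.of A)).presheaf.stalk p), ha,
      ← Ideal.span, Ideal.map_span, Set.image_singleton]
    rfl

theorem eq_closedPoint_or_generic {A : Type u} [CommRing A] [IsDomain A] [IsDiscreteValuationRing A]
    (p : Spec (CommRingCat.of A)) :
    p = IsLocalRing.closedPoint A ∨ p = genericPoint (Spec (CommRingCat.of A)) := by
  rw [genericPoint_eq_bot_of_affine]
  by_cases h : p.asIdeal = ⊥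
  · exact Or.inr (PrimeSpectrum.ext h)
  · exact Or.inl (PrimeSpectrum.ext (IsLocalRing.eq_maximalIdeal (p.isPrime.isMaximal h)))

/-- The equation of the closed fibre at a point over a non-generic point of a trait. -/
theorem exists_equation {A : Type u} [CommRing A] [IsDomain A] [IsPrincipalIdealRing A]
    (f : X ⟶ Spec (CommRingCat.of A)) {x : X} (hx : f x ≠ genericPoint (Spec (CommRingCat.of A))) :
    ∃ t, fibIdeal f x = Ideal.span {t} ∧ t ∈ maximalIdeal (X.presheaf.stalk x) ∧
      (∀ (ξ : X) (h : ξ ⤳ x), f ξ = genericPoint (Spec (CommRingCat.of A)) → t ∉ (genPrime h).asIdeal) ∧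
      ∀ F : X.Modules, FlatMod.IsFlatOverAt f F x → IsSMulRegular (F.presheaf.stalk x) t := by
  obtain ⟨a, ha0, ha⟩ := exists_generator hx
  refine ⟨f.stalkMap x ((Spec (CommRingCat.of A)).presheaf.germ ⊤ (f x) trivial a),
    by rw [fibIdeal, ha, Ideal.map_span, Set.image_singleton], fun hu => ?_, fun ξ h hξ hmem => ?_, fun F hflat => ?_⟩
  · exact (maximalIdeal.isMaximal ((Spec (CommRingCat.of A)).presheaf.stalk (f x))).ne_top
      (ha ▸ Ideal.span_singleton_eq_top.2 (isUnit_of_map_unit (f.stalkMap x).hom _ hu))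
  · have hu : IsUnit ((Spec (CommRingCat.of A)).presheaf.germ ⊤ (f ξ) trivial a) := by
      by_contra hn
      have h1 : (Spec (CommRingCat.of A)).presheaf.germ ⊤ (f ξ) trivial a ∈ maximalIdeal ((Spec (CommRingCat.of A)).presheaf.stalk (f ξ)) := hn
      rw [maximalIdeal_stalk_generic hξ, Ideal.mem_bot] at h1
      exact ha0 (germ_injective_of_isIntegral (Spec (CommRingCat.of A)) (f ξ) (U := ⊤) trivial (h1.trans (map_zero _).symm))
    refine ((hu.map (f.stalkMap ξ).hom).map (X.residue ξ).hom).ne_zero ?_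
    rw [RingHom.mem_ker, Scheme.Hom.germ_stalkMap_apply] at hmem
    rw [Scheme.Hom.germ_stalkMap_apply]
    rwa [Cyc26.specMap_germ] at hmem
  · letI := FlatMod.moduleStalkOver f F x
    haveI : Module.Flat ((Spec (CommRingCat.of A)).presheaf.stalk (f x)) (F.presheaf.stalk x) := hflat
    have hg : (Spec (CommRingCat.of A)).presheaf.germ ⊤ (f x) trivial a ≠ 0 := fun e =>
      ha0 (germ_injective_of_isIntegral (Spec (CommRingCat.of A)) (f x) (U := ⊤) trivial (e.trans (map_zero _).symm))
    intro m n hmn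
    exact smul_right_injective (F.presheaf.stalk x : Type u) hg hmn

end Trait

end Groth.Agent.GenLen5
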