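import Groth.Agent.S12132
import Mathlib.RingTheory.Ideal.AssociatedPrime.Localization
import Mathlib.RingTheory.Flat.TorsionFree

/-!
Cutting a module by a regular element: lengths at the minimal primes and embedded primes.
-/

universe u

open IsLocalRing

namespace Groth.Agent.GenLen5

variable {B : Type u} [CommRing B] {M : Type u} [AddCommGroup M] [Module B M]

variable (B M) in
/-- The length of the localisation at a prime. -/
noncomputable abbrev lenAt (p : PrimeSpectrum B) : ℕ∞ :=
  Module.length (Localization.AtPrime p.asIdeal) (LocalizedModule p.asIdeal.primeCompl M)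

/-- The lengths at the minimal primes not containing `t` sum to at most the length of `M/tM`. -/
theorem sum_lenAt_le [IsNoetherianRing B] [IsLocalRing B] [Module.Finite B M] {t : B}
    (ht : t ∈ maximalIdeal B) {ι : Type*} (T : Finset ι) (g : ι → PrimeSpectrum B)
    (hg : Set.InjOn g T) (hmin : ∀ i ∈ T, (g i).asIdeal ∈ (Module.annihilator B M).minimalPrimes)
    (hoff : ∀ i ∈ T, t ∉ (g i).asIdeal) :
    ∑ i ∈ T, lenAt B M (g i) ≤ Module.length B (M ⧸ (Ideal.span {t} • (⊤ : Submodule B M))) := by
  classical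
  rcases T.eq_empty_or_nonempty with rfl | ⟨i₀, hi₀⟩
  · simp
  by_cases hfin : Module.length B (M ⧸ (Ideal.span {t} • (⊤ : Submodule B M))) = ⊤
  · rw [hfin]; exact le_top
  have hmem : g i₀ ∈ Module.support B M :=
    Module.mem_support_iff_of_finite.2 (hmin i₀ hi₀).1.2
  have hne : (g i₀).asIdeal ≠ maximalIdeal B := fun h => hoff i₀ hi₀ (h ▸ ht)
  have hlt : g i₀ < closedPoint B :=
    lt_of_le_of_ne (le_maximalIdeal (g i₀).isPrime.ne_top) fun h => hne (congrArg PrimeSpectrum.asIdeal h)
  have hcp : closedPoint B ∈ Module.support B M := Module.mem_support_mono hlt.le hmem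
  have hdim : 0 < Module.supportDim B M := by
    have : (⟨g i₀, hmem⟩ : Module.support B M) < ⟨closedPoint B, hcp⟩ := hlt
    exact Order.krullDim_pos_iff.2 ⟨_, _, this⟩
  refine le_trans ?_ (S12132.result t ht M hdim hfin).1
  haveI : Finite (Module.annihilator B M).minimalPrimes :=
    ((Module.annihilator B M).finite_minimalPrimes_of_isNoetherianRing B).to_subtype
  haveI := Fintype.ofFinite (Module.annihilator B M).minimalPrimes
  rw [finsum_eq_sum_of_fintype]
  let L : (Module.annihilator B M).minimalPrimes → ℕ∞ := fun p => lenAt B M ⟨p.1, p.2.1.1⟩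
  calc ∑ i ∈ T, lenAt B M (g i)
      = ∑ i ∈ T.attach, L ⟨(g i.1).asIdeal, hmin i.1 i.2⟩ := (Finset.sum_attach T _).symm
    _ = ∑ p ∈ T.attach.image (fun i => (⟨(g i.1).asIdeal, hmin i.1 i.2⟩ :
          (Module.annihilator B M).minimalPrimes)), L p := by
        rw [Finset.sum_image]
        intro i _ j _ h
        exact Subtype.ext (hg i.2 j.2 (PrimeSpectrum.ext (congrArg Subtype.val h)))
    _ ≤ ∑ p, L p := Finset.sum_le_sum_of_subset (Finset.subset_univ _)

/-- A prime minimal over a minimal prime of the support and a regular `t` is associated to `M/tM`. -/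
theorem exists_not_mem_smul_top [IsNoetherianRing B] [IsLocalRing B] [Module.Finite B M] {t : B}
    (ht : t ∈ maximalIdeal B) (hreg : IsSMulRegular M t) {p : Ideal B}
    (hp : p ∈ (Module.annihilator B M).minimalPrimes) :
    ∃ m : M, m ∉ Ideal.span {t} • (⊤ : Submodule B M) ∧
      ∀ a ∈ p ⊔ Ideal.span {t}, a • m ∈ Ideal.span {t} • (⊤ : Submodule B M) := by
  obtain ⟨m₀, hm₀⟩ := isAssociatedPrime_iff_exists_injective_linearMap _ _ |>.1
    (Module.associatedPrimes.minimalPrimes_annihilator_subset_associatedPrimes (R := B) (M := M) hp) |>.2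
  let N : Submodule B M :=
    { carrier := {m | ∀ a ∈ p, a • m = 0}
      zero_mem' := fun a _ => smul_zero a
      add_mem' := fun hx hy a ha => by rw [smul_add, hx a ha, hy a ha, add_zero]
      smul_mem' := fun c m hm a ha => by rw [smul_comm, hm a ha, smul_zero] }
  have hN : N ≠ ⊥ := by
    have h1 : m₀ (Ideal.Quotient.mk p 1) ∈ N := fun a ha => by
      rw [← map_smul, Algebra.smul_def, map_one, mul_one, Ideal.Quotient.algebraMap_eq,
        Ideal.Quotient.eq_zero_iff_mem.2 ha, map_zero]
    intro h
    rw [h, Submodule.mem_bot, map_eq_zero_iff _ hm₀, Ideal.Quotient.eq_zero_iff_mem] at h1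
    exact hp.1.1.ne_top ((Ideal.eq_top_iff_one _).2 h1)
  have key : ¬ N ≤ Ideal.span {t} • (⊤ : Submodule B M) := by
    intro hle
    refine hN (Submodule.eq_bot_of_le_smul_of_le_jacobson_bot (Ideal.span {t}) N (IsNoetherian.noetherian N)
      (fun n hn => ?_) ?_)
    · obtain ⟨m, -, rfl⟩ := Submodule.mem_smul_pointwise_iff_exists _ _ _ |>.1
        (Submodule.ideal_span_singleton_smul t (⊤ : Submodule B M) ▸ hle hn)
      refine Submodule.smul_mem_smul (Ideal.mem_span_singleton_self t) fun a ha => ?_
      exact hreg.right_eq_zero_of_smul ((smul_comm t a m).trans (hn a ha))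
    · rw [IsLocalRing.jacobson_eq_maximalIdeal _ bot_ne_top, Ideal.span_le, Set.singleton_subset_iff]
      exact ht
  obtain ⟨m, hm, hmt⟩ := SetLike.not_le_iff_exists.1 key
  refine ⟨m, hmt, fun a ha => ?_⟩
  obtain ⟨b, hb, c, hc, rfl⟩ := Submodule.mem_sup.1 ha
  rw [add_smul, hm b hb, zero_add]
  exact Submodule.smul_mem_smul hc trivial

/-- The weakly associated form: if only the maximal ideal lies over `p + (t)`, it is weakly associated to a
quotient of `M` by `tM`. -/
theorem exists_radical_ker_eq [IsNoetherianRing B] [IsLocalRing B] [Module.Finite B M] {t : B}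
    (ht : t ∈ maximalIdeal B) (hreg : IsSMulRegular M t) {p : Ideal B}
    (hp : p ∈ (Module.annihilator B M).minimalPrimes)
    (honly : ∀ q : PrimeSpectrum B, p ≤ q.asIdeal → t ∈ q.asIdeal → q.asIdeal = maximalIdeal B)
    {R : Type u} [CommRing R] [IsLocalRing R] [Algebra B R] (hR : Function.Surjective (algebraMap B R))
    {G : Type u} [AddCommGroup G] [Module B G] [Module R G] [IsScalarTower B R G] (h : M →ₗ[B] G)
    (hker : LinearMap.ker h = Ideal.span {t} • (⊤ : Submodule B M)) :
    ∃ n : G, Ideal.radical (LinearMap.ker (LinearMap.toSpanSingleton R G n)) = maximalIdeal R := by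
  obtain ⟨m, hm, hann⟩ := exists_not_mem_smul_top ht hreg hp
  have hn : h m ≠ 0 := fun e => hm (hker ▸ LinearMap.mem_ker.2 e)
  refine ⟨h m, le_antisymm ?_ fun a ha => ?_⟩
  · refine (Ideal.radical_mono (le_maximalIdeal fun e => hn ?_)).trans
      (maximalIdeal.isMaximal R).isPrime.radical.le
    have h1 : (1 : R) ∈ LinearMap.ker (LinearMap.toSpanSingleton R G (h m)) := e ▸ Submodule.mem_top
    rwa [LinearMap.mem_ker, LinearMap.toSpanSingleton_apply, one_smul] at h1
  · rw [Ideal.radical_eq_sInf, Submodule.mem_sInf]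
    rintro q ⟨hle, hq⟩
    have hmem : ∀ b ∈ p ⊔ Ideal.span {t}, algebraMap B R b ∈ q := fun b hb => hle (by
      rw [LinearMap.mem_ker, LinearMap.toSpanSingleton_apply, algebraMap_smul, ← map_smul,
        ← LinearMap.mem_ker, hker]
      exact hann b hb)
    have he := honly ⟨Ideal.comap (algebraMap B R) q, Ideal.IsPrime.comap _ (hK := hq)⟩ (fun b hb => hmem b (Submodule.mem_sup_left hb))
      (hmem t (Submodule.mem_sup_right (Ideal.mem_span_singleton_self t)))
    obtain ⟨b, rfl⟩ := hR a
    have hb : b ∈ maximalIdeal B := fun hu => ha (hu.map _)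
    rw [← he] at hb
    exact hb

end Groth.Agent.GenLen5
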